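import Cfsg.Agent.Omega.NO3b.OneR.Def

/-!
# The blocks of `V` for all panels over `Z` together: transvections (linear algebra)

* `all_tv` : a set of transvections of a vector space over a finite field of characteristic 2 (dimension `≥ 2`) which is
  closed under products with the same axis and under conjugation with transvections, and not trivial, contains every
  transvection;
* `exists_first` : an involution `1 + δ` of `GL(A)` is a transvection or its commutator with some transvection is one.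
-/

set_option autoImplicit false

namespace Cfsg.Agent.Omega.NO3b.OneR

universe u v

variable {K : Type u} {A : Type v} [Field K] [Finite K] [AddCommGroup A] [Module K A]

omit [Finite K] in
theorem exists_dual_one {a b : A} (hab : ∀ κ : K, κ • a ≠ b) (ha : a ≠ 0) :
    ∃ χ : Module.Dual K A, χ a = 1 ∧ χ b = 0 := by
  have h1 : a ∉ Submodule.span K ({b} : Set A) := by
    intro h
    obtain ⟨κ, hκ⟩ := Submodule.mem_span_singleton.1 h
    have hκ0 : κ ≠ 0 := by
      rintro rfl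
      rw [zero_smul] at hκ
      exact ha hκ.symm
    apply hab κ⁻¹
    rw [← hκ, smul_smul, inv_mul_cancel₀ hκ0, one_smul]
  obtain ⟨φ, hφ1, hφ2⟩ := Submodule.exists_dual_map_eq_bot_of_notMem h1 inferInstance
  have hφb : φ b = 0 := by
    have h : φ b ∈ (Submodule.span K ({b} : Set A)).map φ := ⟨b, Submodule.mem_span_singleton_self b, rfl⟩
    rw [hφ2, Submodule.mem_bot] at h
    exact h
  exact ⟨(φ a)⁻¹ • φ, by rw [LinearMap.smul_apply, smul_eq_mul, inv_mul_cancel₀ hφ1],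
    by rw [LinearMap.smul_apply, hφb, smul_zero]⟩

/-- **All transvections.** -/
theorem all_tv (hK : ∀ x : K, x + x = 0) (two : ∀ a : A, a + a = 0) (P : Module.Dual K A → A → Prop)
    (add : ∀ φ a b, φ a = 0 → φ b = 0 → P φ a → P φ b → P φ (a + b))
    (scal : ∀ (κ : K) φ a, P (κ • φ) a → P φ (κ • a))
    (scal' : ∀ (κ : K) φ a, P φ (κ • a) → P (κ • φ) a)
    (conj : ∀ φ a χ b, φ a = 0 → χ b = 0 → P φ a → P (φ + φ b • χ) (a + χ a • b))
    (ne : ∃ (φ : Module.Dual K A) (a : A), φ ≠ 0 ∧ a ≠ 0 ∧ φ a = 0 ∧ P φ a)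
    (φ : Module.Dual K A) (a : A) (ha : φ a = 0) : P φ a := by
  classical
  have dtwo : ∀ φ : Module.Dual K A, φ + φ = 0 := fun φ => by
    ext x; exact hK _
  have hsq : ∀ x : K, ∃ y, y * y = x := fun x => by
    have : CharP K 2 := by
      refine CharTwo.of_one_ne_zero_of_two_eq_zero one_ne_zero ?_
      rw [← one_add_one_eq_two]; exact hK 1
    have hft : Fintype K := Fintype.ofFinite K
    obtain ⟨y, hy⟩ := FiniteField.isSquare_of_char_two (F := K) (by
      rw [ringChar.eq_iff]; exact this) x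
    exact ⟨y, hy.symm⟩
  -- `C_φ` is closed under scalars
  have h1 : ∀ (φ : Module.Dual K A) (a : A), φ ≠ 0 → a ≠ 0 → φ a = 0 → P φ a → ∀ κ : K, κ ≠ 0 → P φ (κ • a) := by
    intro φ a hφ0 ha0 ha hP κ hκ0
    obtain ⟨b0, hb0⟩ : ∃ b, φ b ≠ 0 := by
      by_contra hcon
      push Not at hcon
      exact hφ0 (LinearMap.ext hcon)
    obtain ⟨b, hb⟩ : ∃ b, φ b = 1 := ⟨(φ b0)⁻¹ • b0, by rw [map_smul, smul_eq_mul, inv_mul_cancel₀ hb0]⟩
    obtain ⟨χ, hχa, hχb⟩ := exists_dual_one (K := K) (a := a) (b := b) (fun κ e => by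
      have h2 := congrArg φ e
      rw [map_smul, ha, smul_zero, hb] at h2
      exact zero_ne_one h2) ha0
    obtain ⟨μ, hμ⟩ := hsq κ
    have hμ0 : μ ≠ 0 := by
      rintro rfl
      rw [zero_mul] at hμ
      exact hκ0 hμ.symm
    -- `(φ, a) → (φ + χ, a + b)`
    have s1 := conj φ a χ b ha hχb hP
    rw [hb, hχa, one_smul, one_smul] at s1
    -- `→ (χ, b)`
    have s2 := conj (φ + χ) (a + b) φ a (by
      rw [LinearMap.add_apply, map_add, map_add, ha, hb, hχa, hχb, zero_add, add_zero]; exact hK 1) ha s1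
    have e1 : (φ + χ) + (φ + χ) a • φ = χ := by
      rw [LinearMap.add_apply, ha, hχa, zero_add, one_smul]
      calc φ + χ + φ = (φ + φ) + χ := by abel
        _ = χ := by rw [dtwo, zero_add]
    have e2 : (a + b) + φ (a + b) • a = b := by
      rw [map_add, ha, hb, zero_add, one_smul]
      calc a + b + a = (a + a) + b := by abel
        _ = b := by rw [two, zero_add]
    rw [e1, e2] at s2
    -- `→ (χ + μ φ, b + μ a)`
    have s3 := conj χ b φ (μ • a) hχb (by rw [map_smul, ha, smul_zero]) s2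
    have e3 : χ + χ (μ • a) • φ = χ + μ • φ := by rw [map_smul, hχa, smul_eq_mul, mul_one]
    have e4 : b + φ b • μ • a = b + μ • a := by rw [hb, one_smul]
    rw [e3, e4] at s3
    -- `→ (μ φ, μ a)`
    have s4 := conj (χ + μ • φ) (b + μ • a) χ (μ⁻¹ • b) (by
      rw [LinearMap.add_apply, LinearMap.smul_apply, map_add, map_add, hχb, hb, map_smul, map_smul, hχa, ha, smul_zero,
        zero_add, add_zero]
      exact hK _) (by rw [map_smul, hχb, smul_zero]) s3
    have e5 : (χ + μ • φ) + (χ + μ • φ) (μ⁻¹ • b) • χ = μ • φ := by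
      rw [map_smul, LinearMap.add_apply, LinearMap.smul_apply, hχb, hb, zero_add, smul_eq_mul, smul_eq_mul, mul_one,
        inv_mul_cancel₀ hμ0, one_smul]
      calc χ + μ • φ + χ = (χ + χ) + μ • φ := by abel
        _ = μ • φ := by rw [dtwo, zero_add]
    have e6 : (b + μ • a) + χ (b + μ • a) • μ⁻¹ • b = μ • a := by
      rw [map_add, hχb, map_smul, hχa, zero_add, smul_eq_mul, mul_one, smul_smul, mul_inv_cancel₀ hμ0, one_smul]
      calc b + μ • a + b = (b + b) + μ • a := by abel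
        _ = μ • a := by rw [two, zero_add]
    rw [e5, e6] at s4
    have s5 := scal μ φ _ s4
    rwa [smul_smul, hμ] at s5
  -- `C_φ = ker φ`
  have h2 : ∀ (φ : Module.Dual K A), φ ≠ 0 → (∃ a, a ≠ 0 ∧ φ a = 0 ∧ P φ a) → ∀ b, φ b = 0 → P φ b := by
    rintro φ hφ0 ⟨a, ha0, ha, hP⟩ b hb
    by_cases hb0 : b = 0
    · have h3 := add φ a a ha ha hP hP
      rw [two] at h3
      rwa [hb0]
    by_cases hab : ∃ κ : K, κ • a = b
    · obtain ⟨κ, rfl⟩ := hab
      refine h1 φ a hφ0 ha0 ha hP κ ?_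
      rintro rfl
      exact hb0 (zero_smul K a)
    · push Not at hab
      obtain ⟨χ, hχa, hχb⟩ := exists_dual_one hab ha0
      have s1 := conj φ a χ b ha hχb hP
      rw [hb, zero_smul, add_zero, hχa, one_smul] at s1
      have s2 := add φ a (a + b) ha (by rw [map_add, ha, hb, add_zero]) hP s1
      rwa [← add_assoc, two, zero_add] at s2
  obtain ⟨ψ, c, hψ0, hc0, hc, hPc⟩ := ne
  have hψ := h2 ψ hψ0 ⟨c, hc0, hc, hPc⟩
  by_cases hφ0 : φ = 0
  · subst hφ0
    have h3 := scal' 0 ψ a (by rw [zero_smul]; exact hψ 0 (map_zero _))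
    rwa [zero_smul] at h3
  refine h2 φ hφ0 ?_ a ha
  by_cases hdep : ∃ κ : K, φ = κ • ψ
  · obtain ⟨κ, rfl⟩ := hdep
    refine ⟨c, hc0, by rw [LinearMap.smul_apply, hc, smul_zero], scal' κ ψ c (hψ _ (by rw [map_smul, hc, smul_zero]))⟩
  · push Not at hdep
    -- `b` with `φ b = ψ b = 1`
    obtain ⟨b, hb1, hb2⟩ : ∃ b, ψ b = 1 ∧ φ b = 1 := by
      -- a vector in `ker ψ` not in `ker φ`
      obtain ⟨x, hx1, hx2⟩ : ∃ x, ψ x = 0 ∧ φ x ≠ 0 := by
        by_contra hcon
        push Not at hcon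
        obtain ⟨y0, hy0⟩ : ∃ b, ψ b ≠ 0 := by
          by_contra hcon
          push Not at hcon
          exact hψ0 (LinearMap.ext hcon)
        apply hdep (φ y0 * (ψ y0)⁻¹)
        ext z
        have h3 := hcon (z - (ψ z * (ψ y0)⁻¹) • y0) (by
          rw [map_sub, map_smul, smul_eq_mul, mul_assoc, inv_mul_cancel₀ hy0, mul_one, sub_self])
        rw [map_sub, map_smul, sub_eq_zero] at h3
        rw [h3, LinearMap.smul_apply, smul_eq_mul, smul_eq_mul]
        ring
      obtain ⟨y0, hy0⟩ : ∃ b, ψ b ≠ 0 := by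
        by_contra hcon
        push Not at hcon
        exact hψ0 (LinearMap.ext hcon)
      obtain ⟨y, hy⟩ : ∃ y, ψ y = 1 := ⟨(ψ y0)⁻¹ • y0, by rw [map_smul, smul_eq_mul, inv_mul_cancel₀ hy0]⟩
      refine ⟨y + ((1 - φ y) * (φ x)⁻¹) • x, ?_, ?_⟩
      · rw [map_add, map_smul, hx1, smul_zero, add_zero, hy]
      · rw [map_add, map_smul, smul_eq_mul, mul_assoc, inv_mul_cancel₀ hx2, mul_one]; abel
    -- `a' ∈ ker ψ`
    refine ⟨c + (φ + ψ) c • b, ?_, ?_, ?_⟩
    · intro h0
      apply hc0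
      have h3 := congrArg ψ h0
      rw [map_add, map_smul, hc, hb1, zero_add, map_zero, smul_eq_mul, mul_one] at h3
      rwa [h3, zero_smul, add_zero] at h0
    · rw [map_add, map_smul, hb2, LinearMap.add_apply, hc, add_zero, smul_eq_mul, mul_one]
      exact hK _
    · have s1 := conj ψ c (φ + ψ) b hc (by rw [LinearMap.add_apply, hb1, hb2]; exact hK 1) hPc
      have e1 : ψ + ψ b • (φ + ψ) = φ := by
        rw [hb1, one_smul]
        calc ψ + (φ + ψ) = (ψ + ψ) + φ := by abel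
          _ = φ := by rw [dtwo, zero_add]
      rwa [e1] at s1

omit [Finite K] in
/-- an involution `1 + δ` -/
theorem exists_first (δ : A →ₗ[K] A) (h2 : ∀ x, δ (δ x) = 0) (h0 : ∃ x, δ x ≠ 0) :
    (∃ (φ : Module.Dual K A) (a : A), φ ≠ 0 ∧ a ≠ 0 ∧ φ a = 0 ∧ ∀ x, δ x = φ x • a) ∨
      ∃ (φ : Module.Dual K A) (a : A), φ ≠ 0 ∧ δ a ≠ 0 ∧ φ a = 0 ∧ ∀ x, φ (δ x) = 0 := by
  obtain ⟨a, ha⟩ := h0
  by_cases hex : ∃ φ : Module.Dual K A, φ ≠ 0 ∧ φ a = 0 ∧ ∀ x, φ (δ x) = 0
  · obtain ⟨φ, hφ0, hφa, hφ⟩ := hex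
    exact Or.inr ⟨φ, a, hφ0, ha, hφa, hφ⟩
  left
  push Not at hex
  -- `Im δ + K a = A`
  have h3 : LinearMap.range δ ⊔ Submodule.span K ({a} : Set A) = ⊤ := by
    by_contra hne
    obtain ⟨x, -, hx⟩ := SetLike.exists_of_lt (lt_top_iff_ne_top.2 hne)
    obtain ⟨φ, hφ1, hφ2⟩ := Submodule.exists_dual_map_eq_bot_of_notMem hx inferInstance
    have hz : ∀ y ∈ LinearMap.range δ ⊔ Submodule.span K ({a} : Set A), φ y = 0 := by
      intro y hy
      have h : φ y ∈ (LinearMap.range δ ⊔ Submodule.span K ({a} : Set A)).map φ := ⟨y, hy, rfl⟩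
      rw [hφ2, Submodule.mem_bot] at h
      exact h
    obtain ⟨y, hy⟩ := hex φ (by rintro rfl; exact hφ1 rfl)
      (hz a ((le_sup_right : _ ≤ LinearMap.range δ ⊔ _) (Submodule.mem_span_singleton_self a)))
    exact hy (hz _ ((le_sup_left : LinearMap.range δ ≤ _) ⟨y, rfl⟩))
  -- `Im δ = K δ a`
  have h4 : ∀ x, ∃ κ : K, δ x = κ • δ a := by
    intro x
    have hx : x ∈ LinearMap.range δ ⊔ Submodule.span K ({a} : Set A) := by rw [h3]; trivial
    obtain ⟨y, ⟨z, rfl⟩, w, hw, rfl⟩ := Submodule.mem_sup.1 hx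
    obtain ⟨κ, rfl⟩ := Submodule.mem_span_singleton.1 hw
    exact ⟨κ, by rw [map_add, h2, zero_add, map_smul]⟩
  choose c hc using h4
  have huniq : ∀ κ κ' : K, κ • δ a = κ' • δ a → κ = κ' := by
    intro κ κ' h
    by_contra hne
    apply ha
    have h5 : (κ - κ') • δ a = 0 := by rw [sub_smul, h, sub_self]
    rw [← one_smul K (δ a), ← inv_mul_cancel₀ (sub_ne_zero.2 hne), mul_smul, h5, smul_zero]
  let φ : Module.Dual K A :=
    { toFun := c
      map_add' := fun x y => huniq _ _ (by rw [← hc, map_add, add_smul, ← hc, ← hc])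
      map_smul' := fun κ x => huniq _ _ (by rw [← hc, map_smul, RingHom.id_apply, smul_eq_mul, mul_smul, ← hc]) }
  have hφ : ∀ x, φ x = c x := fun _ => rfl
  have hca : c a = 1 := huniq _ _ (by rw [← hc, one_smul])
  refine ⟨φ, δ a, fun h => ?_, ha, ?_, fun x => by rw [hφ]; exact hc x⟩
  · have h5 := hφ a
    rw [h, hca] at h5
    exact zero_ne_one h5
  · rw [hφ]
    refine huniq _ _ ?_
    rw [← hc, h2, zero_smul]

end Cfsg.Agent.Omega.NO3b.OneR
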