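import Cfsg.Agent.Omega.NO3b.Exit.BlkHX

/-!
# The blocks of `V` for all panels over `Z` together (#22497 (a), (b), helper556; #21336 (B), helper506): definitions

`Γ` acts faithfully on the finite elementary abelian 2-group `W`  (`Γ = M / C_M(V)`, `W = V`).

* `ten Y A W N = N ⊗ E` : the sum of the `f N`, `f ∈ E = Hom_Y(A, W)`;  `ten ⊤ = img`;
* `cen Y = C_W(Y)`;
* `One Y K A F` : one block `img Y A W = A ⊗ E`, `Y` subnormal in the normal subgroup `K` which acts on `A ⊗ E`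
  through `A`, `W = (A ⊗ E) ⊕ C_W(Y)`, `F = (A₀ ⊗ E) ⊕ C_W(Y)`, `A₀` a hyperplane;
* `Fam Γ W Y A` : a family of blocks `W i = img (Y i) (A i) W`, `Y i` centralises `W j` for `i ≠ j`, permuted
  semilinearly by `Γ`.
-/

set_option autoImplicit false

namespace Cfsg.Agent.Omega.NO3b.OneR

open Subgroup Cfsg.Agent.Omega.NO3b.Exit Cfsg.Agent.Omega.NO3b.Exit.Ten Cfsg.Agent.Omega.NO3b.Exit.Descent
open Cfsg.Agent.Omega.NO3b.Exit.TBlk (Sn)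

universe u v w x

section

variable (Y : Type u) (A : Type v) (W : Type w) [Group Y] [AddCommGroup A] [DistribMulAction Y A]
  [AddCommGroup W] [DistribMulAction Y W]

/-- `N ⊗ E`, `E = Hom_Y(A, W)` -/
def ten (N : AddSubgroup A) : AddSubgroup W :=
  AddSubgroup.closure {w | ∃ (f : HomY Y A W) (a : A), a ∈ N ∧ w = (f : A →+ W) a}

theorem mem_ten {N : AddSubgroup A} (f : HomY Y A W) {a : A} (ha : a ∈ N) : (f : A →+ W) a ∈ ten Y A W N :=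
  AddSubgroup.subset_closure ⟨f, a, ha, rfl⟩

theorem ten_top : ten Y A W ⊤ = img Y A W := by
  refine le_antisymm ((AddSubgroup.closure_le _).2 ?_) ((AddSubgroup.closure_le _).2 ?_)
  · rintro _ ⟨f, a, -, rfl⟩; exact mem_img f a
  · rintro _ ⟨f, a, rfl⟩; exact mem_ten Y A W f trivial

theorem ten_mono {N N' : AddSubgroup A} (h : N ≤ N') : ten Y A W N ≤ ten Y A W N' :=
  AddSubgroup.closure_mono (by rintro _ ⟨f, a, ha, rfl⟩; exact ⟨f, a, h ha, rfl⟩)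

theorem ten_le_img (N : AddSubgroup A) : ten Y A W N ≤ img Y A W := by
  rw [← ten_top]; exact ten_mono Y A W le_top

end

section

variable {Γ : Type u} {W : Type w} [Group Γ] [AddCommGroup W] [DistribMulAction Γ W]

/-- `C_W(Y)` -/
def cen (W : Type w) [AddCommGroup W] [DistribMulAction Γ W] (Y : Subgroup Γ) : AddSubgroup W where
  carrier := {w | ∀ y ∈ Y, y • w = w}
  zero_mem' := fun y _ => smul_zero y
  add_mem' := fun {a b} ha hb y hy => by rw [smul_add, ha y hy, hb y hy]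
  neg_mem' := fun {a} ha y hy => by rw [smul_neg, ha y hy]

theorem mem_cen {Y : Subgroup Γ} {w : W} : w ∈ cen W Y ↔ ∀ y ∈ Y, y • w = w := Iff.rfl

/-- `t` is a `K`-transvection of `A` -/
def IsTv (Y : Subgroup Γ) (A : Type v) [AddCommGroup A] [DistribMulAction Y A] [Finite A] [IsIrr Y A] (t : Y) :
    Prop :=
  ∃ (φ : Module.Dual (KK Y A) A) (a : A), φ a = 0 ∧ ∀ x : A, t • x = x + φ x • a

/-- One panel: `img Y A W = A ⊗ E`. -/
structure One (Y K : Subgroup Γ) (A : Type v) [AddCommGroup A] [DistribMulAction Y A] [Finite A] [IsIrr Y A]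
    (F : AddSubgroup W) : Prop where
  sn : Sn Y K
  nK : ∀ g : Γ, ∀ k ∈ K, g * k * g⁻¹ ∈ K
  tv : AllTv Y A
  gen : ∀ N : Subgroup Γ, (∀ y ∈ Y, ∀ n ∈ N, y * n * y⁻¹ ∈ N) → (∀ t : Y, IsTv Y A t → (t : Γ) ∈ N) → Y ≤ N
  act : ∀ k ∈ K, ∃ θ : A →+ A, ∀ (f : HomY Y A W) (a : A), k • (f : A →+ W) a = (f : A →+ W) (θ a)
  dec : ∀ w : W, ∃ a ∈ img Y A W, w - a ∈ cen W Y
  red : ∀ k ∈ K, (∀ w ∈ img Y A W, k • w = w) → (∀ w : W, k • w - w ∈ img Y A W) → k = 1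
  dimA : ∃ a b : A, a ≠ 0 ∧ ∀ κ : KK Y A, κ • a ≠ b
  dimE : ∃ f g : HomY Y A W, f ≠ 0 ∧ ∀ κ : KK Y A, κ • f ≠ g
  flat : ∃ φ : Module.Dual (KK Y A) A, φ ≠ 0 ∧ F = ten Y A W (LinearMap.ker φ).toAddSubgroup ⊔ cen W Y

end

/-- **A family of commuting blocks.** -/
structure Fam (Γ : Type u) (W : Type w) [Group Γ] [AddCommGroup W] [DistribMulAction Γ W] {ι : Type x}
    (Y : ι → Subgroup Γ) (A : ι → Type v) [∀ i, AddCommGroup (A i)] [∀ i, DistribMulAction (Y i) (A i)]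
    [∀ i, Finite (A i)] [∀ i, IsIrr (Y i) (A i)] : Prop where
  faith : ∀ g : Γ, (∀ w : W, g • w = w) → g = 1
  two : ∀ w : W, w + w = 0
  inj : Function.Injective Y
  sn : ∀ i, Sn (Y i) ⊤
  tv : ∀ i, AllTv (Y i) (A i)
  gen : ∀ i, ∀ N : Subgroup Γ, (∀ y ∈ Y i, ∀ n ∈ N, y * n * y⁻¹ ∈ N) →
    (∀ t : Y i, IsTv (Y i) (A i) t → (t : Γ) ∈ N) → Y i ≤ N
  dec : ∀ i, ∀ w : W, ∃ a ∈ img (Y i) (A i) W, w - a ∈ cen W (Y i)
  cent : ∀ i j, i ≠ j → ∀ y ∈ Y i, ∀ w ∈ img (Y j) (A j) W, y • w = w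
  sem : ∀ (g : Γ) (i : ι), ∃ (j : ι) (h : ∀ y : Γ, y ∈ Y i ↔ g * y * g⁻¹ ∈ Y j) (θ : A i ≃+ A j),
    ∀ (y : Y i) (a : A i), θ (y • a) = (⟨g * y * g⁻¹, (h y).1 y.2⟩ : Y j) • θ a
  dimA : ∀ i, ∃ a b : A i, a ≠ 0 ∧ ∀ κ : KK (Y i) (A i), κ • a ≠ b
  dimE : ∀ i, ∃ f g : HomY (Y i) (A i) W, f ≠ 0 ∧ ∀ κ : KK (Y i) (A i), κ • f ≠ g

end Cfsg.Agent.Omega.NO3b.OneR
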